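import Cfsg.Agent.GpExc.Field
import Cfsg.Agent.KFacts.RgdChevCoord
import Cfsg.Agent.Nodes.LeviDec
import Cfsg.Agent.H537.Pw.WCFour
import Cfsg.Agent.H78.Pw.Base

/-!
# The isomorphism `D.group F ≃* D.group K` of an isomorphism of fields `F ≃+* K` (S2465, F₄(3); helper25)

* `iso hp e`, `iso_xc`, `iso_nc`, `iso_hc`;
* `map_XX`, `map_TT`, `map_Sup`, `map_VJ`, `map_LJ`, `map_PJ`, `map_centralizer`;
* `e3 : K ≃+* ZMod 3` for `Nat.card K = 3`, `Phi3` and its rules.
-/

set_option autoImplicit false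
set_option linter.unusedSectionVars false

namespace Cfsg.Agent.H25.F43

open CoxeterSystem Cfsg.Agent.ChevalleyStructure.CoxeterGeom Cfsg.Agent.Tits.Roots Cfsg.Agent.Tits.Core
  Cfsg.Agent.Nodes.Reps Cfsg.Agent.Nodes.BNOf Cfsg.Agent.Nodes.OppDec Cfsg.Agent.Nodes.LeviDec
  Cfsg.Agent.Nodes.RGDChev Cfsg.Agent.KFacts.RgdChevCoord Cfsg.Agent.Nodes.Bruhat
open Cfsg.Lie Cfsg.Agent.ChevalleyStructure Cfsg.Agent.ChevalleyStructure.Elts
open Cfsg.Agent.GpExc.Field (emb glMap coe_emb coe_glMap glMap_xG emb_injective)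

universe u v

section General

variable {F : Type u} {K : Type v} [Field F] [Field K] {D : ChevalleyDatum} {l : ℕ} {M : CoxeterMatrix (Fin l)}
  (hp : IsType D l M) (e : F ≃+* K)

theorem emb_symm_emb (g : ↥(D.group F)) :
    emb hp.inList (e.symm : K →+* F) (emb hp.inList (e : F →+* K) g) = g := by
  apply Subtype.ext
  apply Units.ext
  rw [coe_emb, coe_glMap, coe_emb, coe_glMap]
  ext i j
  simp

/-- **the isomorphism of Chevalley groups** -/
noncomputable def iso : ↥(D.group F) ≃* ↥(D.group K) where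
  toFun := emb hp.inList (e : F →+* K)
  invFun := emb hp.inList (e.symm : K →+* F)
  left_inv := emb_symm_emb hp e
  right_inv := fun g => by
    have h := emb_symm_emb hp e.symm g
    rwa [RingEquiv.symm_symm] at h
  map_mul' := map_mul _

theorem coe_iso (g : ↥(D.group F)) : ((iso hp e g : ↥(D.group K)) : GL D.Idx K) = glMap D (e : F →+* K) g := rfl

theorem iso_symm : (iso hp e).symm = iso hp e.symm := by
  ext g : 1
  rfl

theorem iso_xc (b : Fin l → ℤ) (a : F) : iso hp e (xc hp b a) = xc hp b (e a) := by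
  apply Subtype.ext
  rw [coe_iso]
  exact glMap_xG hp.inList (e : F →+* K) _ a

theorem iso_hc (j : Fin l) (a : F) : iso hp e (hc hp j a) = hc hp j (e a) := by
  apply Subtype.ext
  rw [coe_iso]
  exact Cfsg.Agent.GpExc.Field.glMap_hG hp (e : F →+* K) _ a

theorem iso_nc (i : Fin l) : iso hp e (nc hp F i) = nc hp K i := by
  apply Subtype.ext
  rw [coe_iso]
  have := Cfsg.Agent.GpExc.Field.glMap_nG hp (e : F →+* K) (D.simple i) 1
  rw [map_one] at this
  exact this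

include hp in
theorem mem_XX {r : ℕ} (hr : r < D.nroots) {g : ↥(D.group F)} :
    g ∈ XX D l F (vec D l r) ↔ ∃ a, g = xc hp (vec D l r) a := by
  rw [Subgroup.mem_subgroupOf, XV_vec hp F hr, mem_rootSubgroup_iff hp.inList]
  constructor
  · rintro ⟨t, ht⟩
    exact ⟨t, Subtype.ext (by rw [coe_xc hp hr, ht])⟩
  · rintro ⟨a, rfl⟩
    exact ⟨a, coe_xc hp hr a⟩

theorem XX_of_not {x : Fin l → ℤ} (hx : ¬ ∃ r, r < D.nroots ∧ vec D l r = x) : XX D l F x = ⊥ := by
  have h1 : XV D l F x = ⊥ := by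
    unfold XV
    have : IsEmpty {r : ℕ // r < D.nroots ∧ vec D l r = x} := ⟨fun r => hx ⟨r.1, r.2⟩⟩
    exact iSup_of_empty _
  change (XV D l F x).subgroupOf (D.group F) = ⊥
  rw [h1, Subgroup.bot_subgroupOf]

theorem map_XX (x : Fin l → ℤ) : (XX D l F x).map (iso hp e).toMonoidHom = XX D l K x := by
  by_cases hx : ∃ r, r < D.nroots ∧ vec D l r = x
  · obtain ⟨r, hr, rfl⟩ := hx
    ext g
    rw [Subgroup.mem_map, mem_XX hp hr]
    constructor
    · rintro ⟨y, hy, rfl⟩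
      obtain ⟨a, rfl⟩ := (mem_XX hp hr).1 hy
      exact ⟨e a, iso_xc hp e _ a⟩
    · rintro ⟨a, rfl⟩
      refine ⟨xc hp (vec D l r) (e.symm a), (mem_XX hp hr).2 ⟨_, rfl⟩, ?_⟩
      change iso hp e (xc hp (vec D l r) (e.symm a)) = _
      rw [iso_xc, RingEquiv.apply_symm_apply]
  · rw [XX_of_not hx, XX_of_not hx, Subgroup.map_bot]

theorem map_Sup (S : Set (Fin l → ℤ)) :
    (RGD.Sup (XX D l F) S).map (iso hp e).toMonoidHom = RGD.Sup (XX D l K) S := by
  unfold RGD.Sup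
  rw [Subgroup.map_iSup]
  exact iSup_congr fun z => map_XX hp e z.1

theorem map_TT : (TT D F).map (iso hp e).toMonoidHom = TT D K := by
  apply le_antisymm
  · rintro _ ⟨g, hg, rfl⟩
    exact Subgroup.mem_subgroupOf.2 (Cfsg.Agent.GpExc.Field.glMap_diagonal hp (e : F →+* K)
      (Subgroup.mem_subgroupOf.1 hg))
  · intro g hg
    refine ⟨iso hp e.symm g, ?_, ?_⟩
    · exact Subgroup.mem_subgroupOf.2 (Cfsg.Agent.GpExc.Field.glMap_diagonal hp (e.symm : K →+* F)
        (Subgroup.mem_subgroupOf.1 hg))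
    · change iso hp e (iso hp e.symm g) = g
      rw [← iso_symm]
      exact (iso hp e).apply_symm_apply g

variable {W : Type*} [Group W] (cs : CoxeterSystem M W)

theorem map_VJ (J : Set (Fin l)) :
    (VJ cs hp.isCartan (XX D l F) J).map (iso hp e).toMonoidHom = VJ cs hp.isCartan (XX D l K) J :=
  map_Sup hp e _

theorem map_VNJ (J : Set (Fin l)) :
    (VNJ cs hp.isCartan (XX D l F) J).map (iso hp e).toMonoidHom = VNJ cs hp.isCartan (XX D l K) J :=
  map_Sup hp e _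

theorem map_LJ (J : Set (Fin l)) :
    (LJ cs hp.isCartan (TT D F) (XX D l F) J).map (iso hp e).toMonoidHom =
      LJ cs hp.isCartan (TT D K) (XX D l K) J := by
  unfold LJ
  rw [Subgroup.map_sup, map_TT, map_Sup]

theorem map_PJ (J : Set (Fin l)) :
    (PJ cs hp.isCartan (TT D F) (XX D l F) J).map (iso hp e).toMonoidHom =
      PJ cs hp.isCartan (TT D K) (XX D l K) J := by
  unfold PJ
  rw [Subgroup.map_sup, map_LJ, map_VJ]

/-! ### transport of elements -/

theorem iso_mem_XX {x : Fin l → ℤ} {g : ↥(D.group F)} : iso hp e g ∈ XX D l K x ↔ g ∈ XX D l F x := by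
  rw [← map_XX hp e x]
  exact Subgroup.mem_map_iff_mem (iso hp e).injective

theorem iso_mem_Sup {S : Set (Fin l → ℤ)} {g : ↥(D.group F)} :
    iso hp e g ∈ RGD.Sup (XX D l K) S ↔ g ∈ RGD.Sup (XX D l F) S := by
  rw [← map_Sup hp e S]
  exact Subgroup.mem_map_iff_mem (iso hp e).injective

theorem iso_mem_VJ {J : Set (Fin l)} {g : ↥(D.group F)} :
    iso hp e g ∈ VJ cs hp.isCartan (XX D l K) J ↔ g ∈ VJ cs hp.isCartan (XX D l F) J :=
  iso_mem_Sup hp e

theorem iso_mem_PJ {J : Set (Fin l)} {g : ↥(D.group F)} :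
    iso hp e g ∈ PJ cs hp.isCartan (TT D K) (XX D l K) J ↔ g ∈ PJ cs hp.isCartan (TT D F) (XX D l F) J := by
  rw [← map_PJ hp e cs J]
  exact Subgroup.mem_map_iff_mem (iso hp e).injective

theorem iso_mem_TT {g : ↥(D.group F)} : iso hp e g ∈ TT D K ↔ g ∈ TT D F := by
  rw [← map_TT hp e]
  exact Subgroup.mem_map_iff_mem (iso hp e).injective

end General

/-! ### isomorphisms of groups -/

section Grp

variable {G H : Type*} [Group G] [Group H] (f : G ≃* H)

theorem equiv_mem_centralizer {g x : G} :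
    f x ∈ Subgroup.centralizer ({f g} : Set H) ↔ x ∈ Subgroup.centralizer ({g} : Set G) := by
  rw [Subgroup.mem_centralizer_singleton_iff, Subgroup.mem_centralizer_singleton_iff, ← map_mul, ← map_mul,
    f.injective.eq_iff]

theorem equiv_map_centralizer (g : G) :
    (Subgroup.centralizer ({g} : Set G)).map f.toMonoidHom = Subgroup.centralizer ({f g} : Set H) := by
  ext y
  obtain ⟨x, rfl⟩ := f.surjective y
  rw [equiv_mem_centralizer f]
  exact Subgroup.mem_map_iff_mem f.injective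

theorem equiv_card_centralizer (g : G) :
    Nat.card (Subgroup.centralizer ({f g} : Set H)) = Nat.card (Subgroup.centralizer ({g} : Set G)) := by
  rw [← equiv_map_centralizer]
  exact Nat.card_congr ((Subgroup.centralizer ({g} : Set G)).equivMapOfInjective f.toMonoidHom f.injective).toEquiv.symm

theorem equiv_pr {n : ℕ} {g : G} : Cfsg.Agent.H78.Pw.Pr n (f g) ↔ Cfsg.Agent.H78.Pw.Pr n g := by
  constructor
  · intro h
    have h1 := h.map f.symm.toMonoidHom
    change Cfsg.Agent.H78.Pw.Pr n (f.symm (f g)) at h1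
    rwa [MulEquiv.symm_apply_apply] at h1
  · intro h
    exact h.map f.toMonoidHom

end Grp

/-! ### the field of three elements -/

section Three

variable {K : Type u} [Field K] (hK : Nat.card K = 3)

include hK in
theorem exists_e3 : Nonempty (K ≃+* ZMod 3) := by
  have : Finite K := Nat.finite_of_card_ne_zero (by rw [hK]; norm_num)
  have : Fintype K := Fintype.ofFinite K
  have : Fact (Nat.Prime 3) := ⟨by norm_num⟩
  rw [Nat.card_eq_fintype_card] at hK
  exact ⟨(ZMod.ringEquivOfPrime K Nat.prime_three hK).symm⟩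

/-- the isomorphism `K ≃+* ZMod 3` -/
noncomputable def e3 : K ≃+* ZMod 3 := (exists_e3 hK).some

/-- the type -/
abbrev hF := Cfsg.Agent.H537.Pw.isType_F4

/-- the Coxeter system -/
abbrev cF := CoxeterMatrix.F₄.toCoxeterSystem

/-- **the isomorphism `F₄(K) ≃* F₄(ZMod 3)` for `|K| = 3`** -/
noncomputable def Phi : ↥(chevF4.group K) ≃* ↥(chevF4.group (ZMod 3)) := iso hF (e3 hK)

theorem Phi_xc (b : Fin 4 → ℤ) (a : K) : Phi hK (xc hF b a) = xc hF b (e3 hK a) := iso_xc hF _ b a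

theorem Phi_nc (i : Fin 4) : Phi hK (nc hF K i) = nc hF (ZMod 3) i := iso_nc hF _ i

theorem Phi_hc (j : Fin 4) (a : K) : Phi hK (hc hF j a) = hc hF j (e3 hK a) := iso_hc hF _ j a

theorem Phi_map_XX (b : Fin 4 → ℤ) : (XX chevF4 4 K b).map (Phi hK).toMonoidHom = XX chevF4 4 (ZMod 3) b :=
  map_XX hF _ b

theorem Phi_map_TT : (TT chevF4 K).map (Phi hK).toMonoidHom = TT chevF4 (ZMod 3) := map_TT hF _

theorem Phi_map_Sup (S : Set (Fin 4 → ℤ)) :
    (RGD.Sup (XX chevF4 4 K) S).map (Phi hK).toMonoidHom = RGD.Sup (XX chevF4 4 (ZMod 3)) S := map_Sup hF _ S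

theorem Phi_map_VJ (J : Set (Fin 4)) :
    (VJ cF hF.isCartan (XX chevF4 4 K) J).map (Phi hK).toMonoidHom = VJ cF hF.isCartan (XX chevF4 4 (ZMod 3)) J :=
  map_VJ hF _ cF J

theorem Phi_map_LJ (J : Set (Fin 4)) :
    (LJ cF hF.isCartan (TT chevF4 K) (XX chevF4 4 K) J).map (Phi hK).toMonoidHom =
      LJ cF hF.isCartan (TT chevF4 (ZMod 3)) (XX chevF4 4 (ZMod 3)) J :=
  map_LJ hF _ cF J

theorem Phi_map_PJ (J : Set (Fin 4)) :
    (PJ cF hF.isCartan (TT chevF4 K) (XX chevF4 4 K) J).map (Phi hK).toMonoidHom =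
      PJ cF hF.isCartan (TT chevF4 (ZMod 3)) (XX chevF4 4 (ZMod 3)) J :=
  map_PJ hF _ cF J

theorem Phi_mem_XX {b : Fin 4 → ℤ} {g : ↥(chevF4.group K)} :
    Phi hK g ∈ XX chevF4 4 (ZMod 3) b ↔ g ∈ XX chevF4 4 K b := iso_mem_XX hF _

theorem Phi_mem_Sup {S : Set (Fin 4 → ℤ)} {g : ↥(chevF4.group K)} :
    Phi hK g ∈ RGD.Sup (XX chevF4 4 (ZMod 3)) S ↔ g ∈ RGD.Sup (XX chevF4 4 K) S := iso_mem_Sup hF _

theorem Phi_mem_VJ {J : Set (Fin 4)} {g : ↥(chevF4.group K)} :
    Phi hK g ∈ VJ cF hF.isCartan (XX chevF4 4 (ZMod 3)) J ↔ g ∈ VJ cF hF.isCartan (XX chevF4 4 K) J :=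
  iso_mem_VJ hF _ cF

theorem Phi_mem_PJ {J : Set (Fin 4)} {g : ↥(chevF4.group K)} :
    Phi hK g ∈ PJ cF hF.isCartan (TT chevF4 (ZMod 3)) (XX chevF4 4 (ZMod 3)) J ↔
      g ∈ PJ cF hF.isCartan (TT chevF4 K) (XX chevF4 4 K) J :=
  iso_mem_PJ hF _ cF

theorem Phi_mem_centralizer {g x : ↥(chevF4.group K)} :
    Phi hK x ∈ Subgroup.centralizer ({Phi hK g} : Set _) ↔ x ∈ Subgroup.centralizer ({g} : Set _) :=
  equiv_mem_centralizer _

theorem Phi_pr {n : ℕ} {g : ↥(chevF4.group K)} :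
    Cfsg.Agent.H78.Pw.Pr n (Phi hK g) ↔ Cfsg.Agent.H78.Pw.Pr n g := equiv_pr _

end Three

end Cfsg.Agent.H25.F43
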